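import Cfsg.Agent.H237.AltCP
import Cfsg.Agent.H238.Base
import Cfsg.Agent.S2936
import Cfsg.Agent.S0252
import Cfsg.Agent.S0254
import Cfsg.Agent.S0256
import Cfsg.Agent.Omega.KFactsZS
import Cfsg.Agent.EvenType.ChevTwo
import Cfsg.Agent.KFacts.RgdLieCharP

/-!
# Alternating groups and groups of Lie type (helper237)

* `eq_top_of_chev` : `L ≤ K ∈ Chev(p)` simple nonabelian, `|K : N(L)|` and `|C(L)|` prime to `p`: `L = K`.
* `not_alt_odd`, `not_alt_two` : `A_m`, `m ≥ p + 3` (`p` odd), `m ≥ 9` (`p = 2`), is not of Lie type of rank at least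
  two in characteristic `p`.
* `chev_five`, `chev_six`, `chev_eight` : `A_5`, `A_6`, `A_8` are in `Chev(2)`.
-/

set_option autoImplicit false

namespace Cfsg.Agent.H237.AltChev

open Subgroup Equiv Cfsg
open Cfsg.Agent.H239.CharPLocal (CP)

/-- **Tits' lemma for normalizers of simple subgroups.** -/
theorem eq_top_of_chev {K : Type*} [Group K] [Finite K] {p : ℕ} [hp : Fact p.Prime] (hK : IsChevSimple p K)
    (hKs : IsSimpleGroup K) {L : Subgroup K} (hs : IsSimpleGroup ↥L) (hna : ∃ a ∈ L, ∃ b ∈ L, a * b ≠ b * a)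
    (hi : ¬ p ∣ (normalizer (L : Set K)).index) (hc : ¬ p ∣ Nat.card ↥(centralizer (L : Set K))) : L = ⊤ := by
  classical
  set M := normalizer (L : Set K) with hM
  have hLM : L ≤ M := le_normalizer
  have hnL : (L.subgroupOf M).Normal := by
    rw [hM]; exact Subgroup.normal_in_normalizer
  have hR := Lib.Cores.pCore_isPGroup (G := ↥M) p
  have hRn := Lib.Cores.pCore_normal (G := ↥M) p
  have hcore : pCore p ↥M = ⊥ := by
    -- `R ∩ L` is normal in `L`
    have h1 : ((pCore p ↥M).map M.subtype ⊓ L).subgroupOf L = ⊥ := by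
      have hn : (((pCore p ↥M).map M.subtype ⊓ L).subgroupOf L).Normal := by
        refine ⟨fun a ha b => ?_⟩
        rw [mem_subgroupOf] at ha ⊢
        obtain ⟨⟨w, hw, hwa⟩, -⟩ := ha
        refine ⟨⟨⟨b, hLM b.2⟩ * w * ⟨b, hLM b.2⟩⁻¹, hRn.conj_mem w hw _, ?_⟩, (b * a * b⁻¹).2⟩
        have hwa' : (w : K) = a := hwa
        show (b : K) * (w : K) * (b : K)⁻¹ = _
        rw [hwa']
        rfl
      rcases hn.eq_bot_or_eq_top with h | h
      · exact h
      · exfalso
        have h2 : L ≤ (pCore p ↥M).map M.subtype := fun l hl => by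
          have h3 := h.ge (mem_top (⟨l, hl⟩ : ↥L))
          exact (mem_subgroupOf.1 h3).1
        have h4 : IsPGroup p ↥L := (hR.map M.subtype).to_le h2
        have h5 : Nontrivial ↥L := inferInstance
        have h6 := h4.center_nontrivial
        obtain ⟨a, ha, b, hb, hab⟩ := hna
        rcases (inferInstance : (center ↥L).Normal).eq_bot_or_eq_top with h7 | h7
        · rw [h7] at h6
          exact not_nontrivial _ h6
        · have h8 : (⟨a, ha⟩ : ↥L) ∈ center ↥L := h7.ge (mem_top _)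
          exact hab (congrArg Subtype.val (mem_center_iff.1 h8 ⟨b, hb⟩)).symm
    rw [eq_bot_iff]
    intro r hr
    -- `r` centralizes `L`
    have h2 : (r : K) ∈ centralizer (L : Set K) := by
      rw [mem_centralizer_iff]
      intro l hl
      have h3 : (r : K) * l * (r : K)⁻¹ * l⁻¹ ∈ L :=
        mul_mem ((mem_normalizer_iff.1 r.2 l).1 hl) (inv_mem hl)
      have h4 : (r : K) * l * (r : K)⁻¹ * l⁻¹ ∈ (pCore p ↥M).map M.subtype := by
        refine ⟨r * (⟨l, hLM hl⟩ * r⁻¹ * ⟨l, hLM hl⟩⁻¹), mul_mem hr (hRn.conj_mem _ (inv_mem hr) _), ?_⟩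
        show (r : K) * (l * (r : K)⁻¹ * l⁻¹) = _
        group
      have h5 : (⟨_, h3⟩ : ↥L) ∈ ((pCore p ↥M).map M.subtype ⊓ L).subgroupOf L := mem_subgroupOf.2 ⟨h4, h3⟩
      rw [h1, mem_bot] at h5
      have h6 : (r : K) * l * (r : K)⁻¹ * l⁻¹ = 1 := congrArg Subtype.val h5
      have h7 : (r : K) * l * (r : K)⁻¹ = l := by rwa [mul_inv_eq_one] at h6
      rw [mul_inv_eq_iff_eq_mul] at h7
      exact h7.symm
    obtain ⟨k, hk⟩ := (IsPGroup.iff_orderOf.mp hR) ⟨r, hr⟩
    rw [mem_bot]
    rw [Subgroup.orderOf_mk] at hk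
    have h8 : orderOf (⟨(r : K), h2⟩ : ↥(centralizer (L : Set K))) ∣ Nat.card ↥(centralizer (L : Set K)) :=
      orderOf_dvd_natCard _
    rw [Subgroup.orderOf_mk, Subgroup.orderOf_coe, hk] at h8
    rcases Nat.eq_zero_or_pos k with h0 | h0
    · rw [h0, pow_zero, orderOf_eq_one_iff] at hk
      exact hk
    · exact absurd ((dvd_pow_self p h0.ne').trans h8) hc
  have htop := Cfsg.Agent.S2936.result hK M hcore hi
  have hLn : L.Normal := normalizer_eq_top_iff.1 htop
  rcases hLn.eq_bot_or_eq_top with h | h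
  · exfalso
    obtain ⟨a, ha, b, hb, hab⟩ := hna
    rw [h, mem_bot] at ha hb
    exact hab (by rw [ha, hb])
  · exact h

section Chev

variable {p : ℕ} [hp : Fact p.Prime]

omit hp in
theorem filt_of_rank {G : Type*} [Group G] (hp2 : p ≠ 2) (h : IsLieRankAtLeastTwoChar p G) :
    KFacts.RgdLieCharP.IsLieFilt p G := by
  obtain ⟨h1, h2⟩ := h
  rcases h1 with h1 | ⟨h1, -⟩ | ⟨h1, h3⟩
  · rcases h1 with h | h | h | h | h | h | h | h | ⟨h3, -⟩ | ⟨h3, -⟩ | ⟨h3, h⟩
    · exact Or.inl h
    · exact Or.inr (Or.inl h)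
    · exact Or.inr (Or.inr (Or.inl h))
    · exact Or.inr (Or.inr (Or.inr (Or.inl h)))
    · exact Or.inr (Or.inr (Or.inr (Or.inr (Or.inl h))))
    · exact Or.inr (Or.inr (Or.inr (Or.inr (Or.inr (Or.inl h)))))
    · exact Or.inr (Or.inr (Or.inr (Or.inr (Or.inr (Or.inr (Or.inl h))))))
    · exact Or.inr (Or.inr (Or.inr (Or.inr (Or.inr (Or.inr (Or.inr h))))))
    · exact absurd h3 hp2
    · exact absurd h3 hp2
    · exact absurd (Or.inr (Or.inr (Or.inr ⟨h3, Or.inl h⟩))) h2
  · exact absurd h1 hp2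
  · exact absurd (Or.inr (Or.inr (Or.inr ⟨h1, Or.inr h3⟩))) h2

/-- the normalizer of a subgroup of order `p` in a group of Lie type of characteristic `p` and rank at least two -/
theorem cp_zpowers {G : Type*} [Group G] [Finite G] (hs : IsSimpleGroup G) (hc : ∃ a b : G, a * b ≠ b * a)
    (h : IsLieRankAtLeastTwoChar p G) {x : G} (hx : orderOf x = p) :
    CP p ↥(normalizer ((zpowers x : Subgroup G) : Set G)) := by
  have hK : IsPGroup p (zpowers x) := by
    rw [IsPGroup.iff_card]
    exact ⟨1, by rw [Nat.card_zpowers, hx, pow_one]⟩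
  have hK1 : zpowers x ≠ ⊥ := by
    rw [Ne, zpowers_eq_bot]
    rintro rfl
    rw [orderOf_one] at hx
    exact hp.out.one_lt.ne hx
  by_cases hp2 : p = 2
  · subst hp2
    have hna : ¬ IsMulCommutative G := by
      rintro ⟨⟨h1⟩⟩
      obtain ⟨a, b, hab⟩ := hc
      exact hab (h1 a b)
    exact (EvenType.ChevTwo.charTwo hna h.1).2 (zpowers x) hK hK1
  · exact (KFacts.RgdLieCharP.hasFilt_of_lie (filt_of_rank hp2 h)).local_char hc hK hK1

variable {Δ : Type*} [DecidableEq Δ] [Fintype Δ]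

theorem card_fix (g : Perm Δ) : Fintype.card {ω // g ω = ω} + g.support.card = Fintype.card Δ := by
  have h1 := Fintype.card_subtype_compl (fun ω => g ω = ω)
  have h2 : g.support.card = Fintype.card {ω // ¬ g ω = ω} := by
    rw [Fintype.card_subtype]
    congr 1
  have h3 := Fintype.card_subtype_le (fun ω => g ω = ω)
  omega

theorem alt_comm (h5 : 5 ≤ Fintype.card Δ) : ∃ a b : ↥(alternatingGroup Δ), a * b ≠ b * a := by
  by_contra hcon
  push Not at hcon
  have hs : IsSimpleGroup ↥(alternatingGroup Δ) :=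
    alternatingGroup.isSimpleGroup (by rwa [Nat.card_eq_fintype_card])
  have h4 : 4 ≤ Nat.card Δ := by rw [Nat.card_eq_fintype_card]; omega
  have h1 := alternatingGroup.center_eq_bot h4
  rw [eq_bot_iff] at h1
  have h2 : ∀ g : ↥(alternatingGroup Δ), g = 1 := fun g => mem_bot.1 (h1 (mem_center_iff.2 fun b => hcon b g))
  obtain ⟨a, b, hab⟩ := exists_pair_ne ↥(alternatingGroup Δ)
  exact hab ((h2 a).trans (h2 b).symm)

theorem sq_not_dvd_factorial {m : ℕ} (hm : m < 2 * p) : ¬ p ^ 2 ∣ m.factorial := by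
  rcases Nat.lt_or_ge m p with hlt | hge
  · intro h
    have h1 : p ∣ m.factorial := (dvd_pow_self p two_ne_zero).trans h
    have h2 := (Nat.Prime.dvd_factorial hp.out).1 h1
    omega
  · induction m, hge using Nat.le_induction with
    | base =>
      intro h
      obtain ⟨q, hq⟩ : ∃ q, p = q + 1 := ⟨p - 1, by have := hp.out.two_le; omega⟩
      have h1 : p.factorial = p * q.factorial := by rw [hq, Nat.factorial_succ]
      rw [h1, pow_two] at h
      have h2 := Nat.dvd_of_mul_dvd_mul_left hp.out.pos h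
      have h3 := (Nat.Prime.dvd_factorial hp.out).1 h2
      omega
    | succ m hpm ih =>
      intro h
      rw [Nat.factorial_succ] at h
      refine ih (by omega) ?_
      have hcop : Nat.Coprime (p ^ 2) (m + 1) := by
        apply Nat.Coprime.pow_left
        rw [Nat.Prime.coprime_iff_not_dvd hp.out]
        intro h1
        obtain ⟨k, hk⟩ := h1
        have hk1 : 1 < k := by
          by_contra h2
          have : k ≤ 1 := by omega
          have : p * k ≤ p * 1 := Nat.mul_le_mul_left p this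
          omega
        have : p * 2 ≤ p * k := Nat.mul_le_mul_left p hk1
        omega
      exact hcop.dvd_of_dvd_mul_left h

/-- **`A_m`, `m ≥ p + 3`, `p` odd**, is not of Lie type of rank at least two in characteristic `p`. -/
theorem not_alt_odd (hp2 : p ≠ 2) (hm : p + 3 ≤ Fintype.card Δ)
    (h : IsLieRankAtLeastTwoChar p ↥(alternatingGroup Δ)) : False := by
  have hp3 : 3 ≤ p := by have := hp.out.two_le; omega
  have hs : IsSimpleGroup ↥(alternatingGroup Δ) :=
    alternatingGroup.isSimpleGroup (by rw [Nat.card_eq_fintype_card]; omega)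
  obtain ⟨x, hx⟩ : ∃ x : Perm Δ, x.cycleType = {p} := by
    rw [Perm.exists_with_cycleType_iff]
    refine ⟨by simp; omega, ?_⟩
    intro a ha
    rw [Multiset.mem_singleton.1 ha]
    exact hp.out.two_le
  have hord : orderOf x = p := by
    rw [← Perm.lcm_cycleType, hx]
    simp
  have hA : x ∈ alternatingGroup Δ := by
    rw [Perm.mem_alternatingGroup]
    have hodd := hp.out.odd_of_ne_two hp2
    have h1 : Perm.sign x ^ p = 1 := by
      rw [← map_pow, ← hord, pow_orderOf_eq_one, map_one]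
    rcases Int.units_eq_one_or (Perm.sign x) with h | h
    · exact h
    · rw [h, hodd.neg_one_pow] at h1
      exact absurd h1 (by decide)
  have hsup : x.support.card = p := by rw [← Perm.sum_cycleType, hx, Multiset.sum_singleton]
  have h1 := AltCP.cp_norm (cp_zpowers hs (alt_comm (by omega)) h (x := ⟨x, hA⟩) (by rw [Subgroup.orderOf_mk, hord]))
  have h2 := card_fix x
  have h3 : Fintype.card {ω // ((⟨x, hA⟩ : ↥(alternatingGroup Δ)) : Perm Δ) ω = ω} = Fintype.card {ω // x ω = ω} := rfl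
  rw [h3] at h1
  rcases h1 with h1 | ⟨h1, hp3⟩ | ⟨h1, h4⟩
  · omega
  · -- `A₆ ≅ PSL₂(9)`
    subst hp3
    have h6 : Fintype.card Δ = 6 := by omega
    apply h.2
    have : Fact (Nat.Prime 3) := ⟨Nat.prime_three⟩
    have hc : Nat.card (GaloisField 3 2) = 3 ^ 2 := GaloisField.card 3 2 (by norm_num)
    have : Finite (GaloisField 3 2) := Nat.finite_of_card_ne_zero (by rw [hc]; norm_num)
    let _ : Fintype (GaloisField 3 2) := Fintype.ofFinite _
    have h9 : Fintype.card (GaloisField 3 2) = 9 := by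
      rw [← Nat.card_eq_fintype_card, hc]
      norm_num
    obtain ⟨e⟩ := Cfsg.Agent.S0254.result h9
    exact Or.inl ⟨GaloisField 3 2, inferInstance, inferInstance, inferInstance, by omega,
      ⟨(altCongrHom (Fintype.equivFinOfCardEq h6)).trans e.symm⟩⟩
  · exact hp2 h4

/-- **`A_m`, `m ≥ 9`**, is not of Lie type in characteristic two. -/
theorem not_alt_two (hm : 9 ≤ Fintype.card Δ) (h : IsChevSimple 2 ↥(alternatingGroup Δ)) : False := by
  have : Fact (Nat.Prime 2) := ⟨Nat.prime_two⟩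
  have hs : IsSimpleGroup ↥(alternatingGroup Δ) :=
    alternatingGroup.isSimpleGroup (by rw [Nat.card_eq_fintype_card]; omega)
  obtain ⟨x, hx⟩ : ∃ x : Perm Δ, x.cycleType = {2, 2} := by
    rw [Perm.exists_with_cycleType_iff]
    refine ⟨by simp; omega, ?_⟩
    intro a ha
    have ha2 : a = 2 := by simpa using ha
    omega
  have hord : orderOf x = 2 := by
    rw [← Perm.lcm_cycleType, hx]
    rfl
  have hA : x ∈ alternatingGroup Δ := by
    rw [Perm.mem_alternatingGroup, Perm.sign_of_cycleType, hx]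
    rfl
  have hsup : x.support.card = 4 := by rw [← Perm.sum_cycleType, hx]; rfl
  have hna : ¬ IsMulCommutative ↥(alternatingGroup Δ) := by
    rintro ⟨⟨h1⟩⟩
    obtain ⟨a, b, hab⟩ := alt_comm (Δ := Δ) (by omega)
    exact hab (h1 a b)
  have hxo : orderOf (⟨x, hA⟩ : ↥(alternatingGroup Δ)) = 2 := by rw [Subgroup.orderOf_mk, hord]
  have hK : IsPGroup 2 (zpowers (⟨x, hA⟩ : ↥(alternatingGroup Δ))) := by
    rw [IsPGroup.iff_card]
    exact ⟨1, by rw [Nat.card_zpowers, hxo, pow_one]⟩
  have hK1 : zpowers (⟨x, hA⟩ : ↥(alternatingGroup Δ)) ≠ ⊥ := by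
    rw [Ne, zpowers_eq_bot]
    intro h1
    rw [h1, orderOf_one] at hxo
    omega
  have h1 := AltCP.cp_norm (p := 2) (g := ⟨x, hA⟩) ((EvenType.ChevTwo.charTwo hna h).2 _ hK hK1)
  have h2 := card_fix x
  have h3 : Fintype.card {ω // ((⟨x, hA⟩ : ↥(alternatingGroup Δ)) : Perm Δ) ω = ω} = Fintype.card {ω // x ω = ω} := rfl
  rw [h3] at h1
  omega

theorem chev_eight : IsChevSimple 2 ↥(alternatingGroup (Fin 8)) := by
  have : Fact (Nat.Prime 2) := ⟨Nat.prime_two⟩
  obtain ⟨e⟩ := Cfsg.Agent.S0256.result (F := ZMod 2) (ZMod.card 2)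
  exact Or.inl (Or.inl ⟨ZMod 2, inferInstance, inferInstance, inferInstance, 4, by norm_num, fun h => absurd h (by norm_num),
    ⟨e.symm⟩⟩)

theorem chev_six : IsChevSimple 2 ↥(alternatingGroup (Fin 6)) :=
  Or.inr (Or.inl ⟨rfl, Or.inl ⟨MulEquiv.refl _⟩⟩)

theorem chev_five : IsChevSimple 2 ↥(alternatingGroup (Fin 5)) :=
  Or.inl (Omega.KFacts.charTwo_alt_five (MulEquiv.refl _))

end Chev

end Cfsg.Agent.H237.AltChev
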