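import Cfsg.Agent.H238.Base
import Cfsg.Agent.SignalizersComponents.Components
import Cfsg.Agent.OddHalf.LongSL.Abs
import Cfsg.Agent.LFourB.FixQuat
import Cfsg.Agent.Cit.LongAbs

/-!
# Groups with a long `SL₂(q)`, `q > 3` odd: no 2-central involution with centralizer of characteristic two (helper237)

* `CP.subnormal` : subnormal subgroups of groups of characteristic `p`;
* `cp_inter` : `C(z)` of characteristic `p`, `j` a `p`-element commuting with `z`: subnormal subgroups of
  `C(j) ∩ C(z)` have characteristic `p`;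
* `long_kill` : `HasLong q K`, `q > 3`, `z` an involution with `|K : C(z)|` odd: `C(z)` is not of characteristic two.
-/

set_option autoImplicit false

namespace Cfsg.Agent.H237.LongKill

open Subgroup Cfsg
open Cfsg.Agent.H239.CharPLocal (CP)
open Cfsg.Agent.SignalizersComponents.Components

theorem cp_subnormal {p : ℕ} [hp : Fact p.Prime] {G : Type*} [Group G] [Finite G] (h : CP p G) {N : Subgroup G}
    (hN : N.IsSubnormal) : CP p ↥N := by
  induction hN with
  | top => exact h.of_equiv topEquiv.symm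
  | step H K h_le hSubn hN ih => exact (ih.normal (H.subgroupOf K)).of_equiv (subgroupOfEquivOfLe h_le)

/-- a quasisimple group is not of characteristic `p` -/
theorem not_cp_quasisimple {p : ℕ} [hp : Fact p.Prime] {G : Type*} [Group G] [Finite G] (hq : IsQuasisimple G)
    (h : CP p G) : False := by
  have h1 := H239.CharPLocal.cp_iff_genFitting.2 h
  have h2 : IsComponent (⊤ : Subgroup G) := ⟨IsSubnormal.top, isQuasisimple_of_mulEquiv topEquiv.symm hq⟩
  have h3 : (⊤ : Subgroup G) ≤ generalizedFittingSubgroup G := (component_le_layer h2).trans le_sup_left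
  rw [h1] at h3
  have h4 : IsPGroup p (⊤ : Subgroup G) := (Lib.Cores.pCore_isPGroup p).to_le h3
  have h5 : IsPGroup p G := h4.of_equiv topEquiv
  have h6 : Group.IsNilpotent G := h5.isNilpotent
  exact quasisimple_not_isSolvable hq inferInstance

section

variable {K : Type*} [Group K] [Finite K]

theorem exists_conj_cent {p : ℕ} [hp : Fact p.Prime] {z : K} {P : Sylow p K}
    (hP : (P : Subgroup K) ≤ centralizer ({z} : Set K)) {S : Subgroup K} (hS : IsPGroup p S) :
    ∃ g : K, S ≤ centralizer ({g * z * g⁻¹} : Set K) := by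
  obtain ⟨Q, hQ⟩ := hS.exists_le_sylow
  obtain ⟨g, hg⟩ := MulAction.exists_smul_eq K P Q
  refine ⟨g, fun s hs => ?_⟩
  have h1 : s ∈ (Q : Subgroup K) := hQ hs
  rw [← hg] at h1
  obtain ⟨x, hx, hxs⟩ := h1
  have h2 := hP hx
  rw [mem_centralizer_singleton_iff] at h2 ⊢
  have hxs' : g * x * g⁻¹ = s := hxs
  rw [← hxs']
  calc g * x * g⁻¹ * (g * z * g⁻¹) = g * (x * z) * g⁻¹ := by group
    _ = g * (z * x) * g⁻¹ := by rw [h2]
    _ = _ := by group

theorem mem_normalizer_of_component {C J : Subgroup K} (hJC : J ≤ C) (hJ : IsComponent (J.subgroupOf C)) {z : K}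
    (hzC : z ∈ C) {a b : K} (ha : a ∈ J) (hb : b ∈ J) (hab : a * b ≠ b * a)
    (hzb : z * b = b * z) : z ∈ normalizer (J : Set K) := by
  have h1 := isComponent_conj (⟨z, hzC⟩ : C) hJ
  by_cases hne : J.subgroupOf C = (J.subgroupOf C).map (MulAut.conj (⟨z, hzC⟩ : C)).toMonoidHom
  · have hconj : ∀ x ∈ J, z * x * z⁻¹ ∈ J := by
      intro x hx
      have h2 : (MulAut.conj (⟨z, hzC⟩ : C)) ⟨x, hJC hx⟩ ∈ J.subgroupOf C := by
        rw [hne]
        exact ⟨_, mem_subgroupOf.2 hx, rfl⟩
      exact mem_subgroupOf.1 h2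
    rw [mem_normalizer_iff]
    intro x
    refine ⟨hconj x, fun hx => ?_⟩
    have hmap : J.map (MulAut.conj z).toMonoidHom ≤ J := by
      rintro _ ⟨l, hl, rfl⟩
      exact hconj l hl
    have heq : J.map (MulAut.conj z).toMonoidHom = J :=
      eq_of_le_of_card_ge hmap (le_of_eq (card_map_of_injective (f := (MulAut.conj z).toMonoidHom)
        (MulAut.conj z).injective).symm)
    have h2 : z * x * z⁻¹ ∈ J.map (MulAut.conj z).toMonoidHom := by rw [heq]; exact hx
    obtain ⟨l, hl, hlg⟩ := h2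
    have h3 : MulAut.conj z l = MulAut.conj z x := hlg
    rw [← (MulAut.conj z).injective h3]
    exact hl
  · exfalso
    have h2 := component_commutator_eq_bot_of_ne hJ h1 hne
    rw [commutator_eq_bot_iff_le_centralizer] at h2
    have h3 := h2 (mem_subgroupOf.2 ha : (⟨a, hJC ha⟩ : C) ∈ J.subgroupOf C)
    have h4 : (⟨b, hJC hb⟩ : C) ∈ (J.subgroupOf C).map (MulAut.conj (⟨z, hzC⟩ : C)).toMonoidHom := by
      refine ⟨⟨b, hJC hb⟩, mem_subgroupOf.2 hb, Subtype.ext ?_⟩
      show z * b * z⁻¹ = b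
      rw [hzb, mul_inv_cancel_right]
    rw [mem_centralizer_iff] at h3
    exact hab (congrArg Subtype.val (h3 _ h4)).symm

/-- `C(z)` of characteristic `p`, `j` a `p`-element commuting with `z` -/
theorem cp_inter {p : ℕ} [hp : Fact p.Prime] {z j : K} (hz : orderOf z = p) (hj : ∃ k : ℕ, orderOf j = p ^ k)
    (hjz : j * z = z * j) (hcp : CP p ↥(centralizer ({z} : Set K))) :
    CP p ↥(centralizer ({j} : Set K) ⊓ centralizer ({z} : Set K)) := by
  have p1 : IsPGroup p (zpowers j) := by
    obtain ⟨k, hk⟩ := hj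
    exact IsPGroup.of_card (n := k) (by rw [Nat.card_zpowers, hk])
  have p2 : IsPGroup p (zpowers z) := IsPGroup.of_card (n := 1) (by rw [Nat.card_zpowers, hz, pow_one])
  have hn : zpowers j ≤ normalizer ((zpowers z : Subgroup K) : Set K) := by
    refine le_trans (zpowers_le.2 ?_) (Subgroup.centralizer_le_normalizer _)
    rw [mem_centralizer_iff]
    rintro _ ⟨i, rfl⟩
    exact ((show Commute z j from hjz.symm).zpow_left i).eq
  have p3 : IsPGroup p ↥(zpowers j ⊔ zpowers z) := p1.to_sup_of_normal_right' p2 hn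
  have hzX : z ∈ zpowers j ⊔ zpowers z := mem_sup_right (mem_zpowers z)
  have hjX : j ∈ zpowers j ⊔ zpowers z := mem_sup_left (mem_zpowers j)
  have hXz : zpowers j ⊔ zpowers z ≤ centralizer ({z} : Set K) :=
    sup_le (zpowers_le.2 (mem_centralizer_singleton_iff.2 hjz)) (zpowers_le.2 (mem_centralizer_singleton_iff.2 rfl))
  have h1 := H239.CharPLocal.cp_normalizer_of_centralizer p3 hzX
    (fun x hx => mem_centralizer_singleton_iff.1 (hXz hx)) hcp
  have hle : centralizer ((zpowers j ⊔ zpowers z : Subgroup K) : Set K) ≤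
      normalizer ((zpowers j ⊔ zpowers z : Subgroup K) : Set K) := Subgroup.centralizer_le_normalizer _
  have hnorm : ((centralizer ((zpowers j ⊔ zpowers z : Subgroup K) : Set K)).subgroupOf
      (normalizer ((zpowers j ⊔ zpowers z : Subgroup K) : Set K))).Normal := by
    refine ⟨fun a ha b => ?_⟩
    rw [mem_subgroupOf, mem_centralizer_iff] at ha ⊢
    intro x hx
    have h2 := ha ((b : K)⁻¹ * x * b) ((mem_normalizer_iff''.1 b.2 x).1 hx)
    show x * ((b : K) * a * (b : K)⁻¹) = (b : K) * a * (b : K)⁻¹ * x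
    calc x * ((b : K) * a * (b : K)⁻¹) = (b : K) * ((b : K)⁻¹ * x * b * a) * (b : K)⁻¹ := by group
      _ = (b : K) * (a * ((b : K)⁻¹ * x * b)) * (b : K)⁻¹ := by rw [h2]
      _ = _ := by group
  have h2 := (h1.normal ((centralizer ((zpowers j ⊔ zpowers z : Subgroup K) : Set K)).subgroupOf
      (normalizer ((zpowers j ⊔ zpowers z : Subgroup K) : Set K)))).of_equiv (subgroupOfEquivOfLe hle)
  have heq : centralizer ((zpowers j ⊔ zpowers z : Subgroup K) : Set K) =
      centralizer ({j} : Set K) ⊓ centralizer ({z} : Set K) := by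
    apply le_antisymm
    · exact le_inf (centralizer_le (by simpa using hjX)) (centralizer_le (by simpa using hzX))
    · rintro x ⟨hx1', hx2'⟩
      have hx1 : x * j = j * x := mem_centralizer_singleton_iff.1 hx1'
      have hx2 : x * z = z * x := mem_centralizer_singleton_iff.1 hx2'
      have h3 : zpowers j ⊔ zpowers z ≤ centralizer ({x} : Set K) :=
        sup_le (zpowers_le.2 (mem_centralizer_singleton_iff.2 hx1.symm))
          (zpowers_le.2 (mem_centralizer_singleton_iff.2 hx2.symm))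
      rw [mem_centralizer_iff]
      intro y hy
      exact mem_centralizer_singleton_iff.1 (h3 hy)
  exact h2.of_equiv (MulEquiv.subgroupCongr heq)

/-- subnormal subgroups of `C(j)`, `C(z)` of characteristic `p` -/
theorem cp_cent_of_subnormal {p : ℕ} [hp : Fact p.Prime] {z j : K} (hz : orderOf z = p)
    (hj : ∃ k : ℕ, orderOf j = p ^ k) (hjz : j * z = z * j) (hcp : CP p ↥(centralizer ({z} : Set K)))
    {J : Subgroup K} (hJ : J ≤ centralizer ({j} : Set K))
    (hsub : (J.subgroupOf (centralizer ({j} : Set K))).IsSubnormal) :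
    CP p ↥(J ⊓ centralizer ({z} : Set K)) := by
  have h1 := cp_inter hz hj hjz hcp
  have hle : J ⊓ centralizer ({z} : Set K) ≤ centralizer ({j} : Set K) ⊓ centralizer ({z} : Set K) :=
    inf_le_inf_right _ hJ
  have h2 : ((J ⊓ centralizer ({z} : Set K)).subgroupOf
      (centralizer ({j} : Set K) ⊓ centralizer ({z} : Set K))).IsSubnormal := by
    have h3 : ((J.subgroupOf (centralizer ({j} : Set K))).comap
        (Subgroup.inclusion (inf_le_left : centralizer ({j} : Set K) ⊓ centralizer ({z} : Set K) ≤ _))).IsSubnormal :=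
      hsub.comap _
    have h4 : (J.subgroupOf (centralizer ({j} : Set K))).comap
        (Subgroup.inclusion (inf_le_left : centralizer ({j} : Set K) ⊓ centralizer ({z} : Set K) ≤ _)) =
        (J ⊓ centralizer ({z} : Set K)).subgroupOf (centralizer ({j} : Set K) ⊓ centralizer ({z} : Set K)) := by
      ext x
      rw [mem_comap, mem_subgroupOf, mem_subgroupOf]
      exact ⟨fun h => ⟨h, x.2.2⟩, fun h => h.1⟩
    rwa [h4] at h3
  exact (cp_subnormal h1 h2).of_equiv (subgroupOfEquivOfLe hle)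

/-- **Long `SL₂(q)`, `q > 3`.** -/
theorem long_kill {q : ℕ} (hq : 3 < q) (h : OddHalf.LongSL.HasLong q K) {z : K} (hz : orderOf z = 2)
    (hcp : CP 2 ↥(centralizer ({z} : Set K))) {P : Sylow 2 K} (hP : (P : Subgroup K) ≤ centralizer ({z} : Set K)) :
    False := by
  have : Fact (Nat.Prime 2) := ⟨Nat.prime_two⟩
  obtain ⟨j, J, hj, hjJ, hJC, hsub, F, i1, i2, hF, hqo, ⟨e⟩⟩ := h
  have h2 : (2 : F) ≠ 0 := OddHalf.LongSL.two_ne_of_odd (hF ▸ hqo)
  have hqs : IsQuasisimple ↥J := isQuasisimple_of_mulEquiv e.symm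
    (Cit.LongAbs.quasisimple_SL2 (hF ▸ hqo) (by omega))
  have hcomp : IsComponent (J.subgroupOf (centralizer ({j} : Set K))) :=
    ⟨hsub, isQuasisimple_of_mulEquiv (subgroupOfEquivOfLe hJC).symm hqs⟩
  -- a Sylow 2-subgroup of `J` containing `j`
  have hjp : IsPGroup 2 (zpowers (⟨j, hjJ⟩ : ↥J)) :=
    IsPGroup.of_card (n := 1) (by rw [Nat.card_zpowers, Subgroup.orderOf_mk, hj, pow_one])
  obtain ⟨Q, hQ⟩ := hjp.exists_le_sylow
  have hQ2 : IsPGroup 2 ↥((Q : Subgroup ↥J).map J.subtype) := Q.isPGroup'.map _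
  obtain ⟨g, hg⟩ := exists_conj_cent hP hQ2
  obtain ⟨z', hz'⟩ : ∃ z' : K, z' = g * z * g⁻¹ := ⟨_, rfl⟩
  rw [← hz'] at hg
  have hzo : orderOf z' = 2 := by
    rw [hz']
    exact (orderOf_injective (MulAut.conj g).toMonoidHom (MulAut.conj g).injective z).trans hz
  have hcp' : CP 2 ↥(centralizer ({z'} : Set K)) := by
    rw [hz']
    exact H239.CharPLocal.cp_centralizer_conj g z hcp
  have hzQ : ∀ x ∈ (Q : Subgroup ↥J).map J.subtype, z' * x = x * z' := fun x hx =>
    (mem_centralizer_singleton_iff.1 (hg hx)).symm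
  have hjQ : j ∈ (Q : Subgroup ↥J).map J.subtype := ⟨⟨j, hjJ⟩, hQ (mem_zpowers _), rfl⟩
  have hzj : z' * j = j * z' := hzQ j hjQ
  -- two noncommuting elements
  obtain ⟨a, ha, b, hb, hab⟩ : ∃ a ∈ Q, ∃ b ∈ Q, a * b ≠ b * a := by
    obtain ⟨a, ha, b, hb, hab⟩ := LFourB.FixQuat.exists_not_comm h2
      (Q.mapSurjective (f := e.toMonoidHom) e.surjective)
    obtain ⟨a', ha', rfl⟩ := ha
    obtain ⟨b', hb', rfl⟩ := hb
    refine ⟨a', ha', b', hb', fun h => hab ?_⟩
    rw [← map_mul, h, map_mul]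
  have hzJ : z' ∈ normalizer (J : Set K) := by
    refine mem_normalizer_of_component hJC hcomp (mem_centralizer_singleton_iff.2 hzj) a.2 b.2
      (fun h => hab (Subtype.ext h)) (hzQ b ⟨b, hb, rfl⟩)
  have hidx : Odd (((Q : Subgroup ↥J).map J.subtype).relIndex J) := by
    have h3 : ((Q : Subgroup ↥J).map J.subtype).relIndex J = (Q : Subgroup ↥J).index := by
      unfold Subgroup.relIndex
      rw [subgroupOf, comap_map_eq_self_of_injective J.subtype_injective]
    rw [h3, ← Nat.not_even_iff_odd, even_iff_two_dvd]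
    exact Q.not_dvd_index
  have hz2 : z' * z' = 1 := by
    rw [← pow_two, ← hzo]
    exact pow_orderOf_eq_one z'
  have hcen := LFourB.FixQuat.centralizes h2 e hQ2 hidx hzJ (fun a _ => by rw [hz2, one_mul, mul_one]) hzQ
  have h3 := cp_cent_of_subnormal hzo ⟨1, by rw [hj, pow_one]⟩ hzj.symm hcp' hJC hsub
  have h4 : J ⊓ centralizer ({z'} : Set K) = J :=
    inf_eq_left.2 fun x hx => mem_centralizer_singleton_iff.2 (hcen x hx).symm
  rw [h4] at h3
  exact not_cp_quasisimple hqs h3

end

end Cfsg.Agent.H237.LongKill
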