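import Mathlib

/-!
# Elements of order `p ^ 2` in subquotients of `GL_n(F)`, `n ≤ p`, `char F = p` (helper237)

* `pow_p` : `M ^ p = 1` if `M ^ p ^ k = 1`;
* `pow_of_quot` : no elements of order `p ^ 2`;
* `exists_order` : a subgroup of index prime to `p` contains conjugates of all `p`-elements.
-/

set_option autoImplicit false

namespace Cfsg.Agent.H237.ExpP

open Subgroup

/-- `M ^ p = 1` -/
theorem pow_p {n : ℕ} {F : Type*} [Field F] {p : ℕ} [Fact p.Prime] [CharP F p] (hn : n ≤ p)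
    {M : Matrix (Fin n) (Fin n) F} {k : ℕ} (h : M ^ p ^ k = 1) : M ^ p = 1 := by
  rcases Nat.eq_zero_or_pos n with rfl | hn0
  · exact Subsingleton.elim _ _
  have : Nonempty (Fin n) := ⟨⟨0, hn0⟩⟩
  have hs : (M - 1) ^ p ^ k = 0 := by
    rw [sub_pow_char_pow_of_commute _ _ (Commute.one_right M), h, one_pow, sub_self]
  have h0 : (M - 1) ^ n = 0 := by
    have h1 : ∀ j : ℕ, Matrix.toLin' ((M - 1) ^ j) = (Matrix.toLin' (M - 1)) ^ j := fun j =>
      map_pow (Matrix.toLinAlgEquiv' (R := F) (n := Fin n)) (M - 1) j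
    have hm : (M - 1) ^ (max n (p ^ k)) = 0 := by
      obtain ⟨c, hc⟩ := Nat.exists_eq_add_of_le (le_max_right n (p ^ k))
      rw [hc, pow_add, hs, zero_mul]
    have h2 := Module.End.ker_pow_eq_ker_pow_finrank_of_le (K := F) (f := Matrix.toLin' (M - 1))
      (m := max n (p ^ k)) (by rw [Module.finrank_fin_fun]; exact le_max_left _ _)
    rw [← h1, hm, map_zero, LinearMap.ker_zero, Module.finrank_fin_fun, ← h1] at h2
    have h3 := LinearMap.ker_eq_top.1 h2.symm
    exact (Matrix.toLin' (R := F) (m := Fin n) (n := Fin n)).map_eq_zero_iff.1 h3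
  have hp : (M - 1) ^ p = 0 := by
    obtain ⟨c, hc⟩ := Nat.exists_eq_add_of_le hn
    rw [hc, pow_add, h0, zero_mul]
  rw [sub_pow_char_of_commute p (Commute.one_right M), one_pow, sub_eq_zero] at hp
  exact hp

/-- no elements of order `p ^ 2` in a quotient of a linear group of degree `≤ p` -/
theorem pow_of_quot {n : ℕ} {F : Type*} [Field F] {p : ℕ} [hp : Fact p.Prime] [CharP F p] (hn : n ≤ p)
    {G X : Type*} [Group G] [Finite G] [Group X] (ρ : G →* Matrix (Fin n) (Fin n) F) (hρ : Function.Injective ρ)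
    (π : G →* X) (hπ : Function.Surjective π) {x : X} (hx : x ^ (p * p) = 1) : x ^ p = 1 := by
  obtain ⟨g, rfl⟩ := hπ x
  obtain ⟨a, m, hm, hN⟩ := Nat.exists_eq_pow_mul_and_not_dvd (orderOf_pos g).ne' p hp.out.ne_one
  have h1 : (g ^ m) ^ p ^ a = 1 := by
    rw [← pow_mul, mul_comm, ← hN, pow_orderOf_eq_one]
  have h2 : (g ^ m) ^ p = 1 := by
    apply hρ
    rw [map_pow, map_one]
    refine pow_p hn (k := a) ?_
    rw [← map_pow, h1, map_one]
  have h3 : (π g) ^ (m * p) = 1 := by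
    rw [← map_pow, pow_mul, h2, map_one]
  have h4 : orderOf (π g) ∣ Nat.gcd (p * p) (m * p) :=
    Nat.dvd_gcd (orderOf_dvd_of_pow_eq_one hx) (orderOf_dvd_of_pow_eq_one h3)
  rw [Nat.gcd_mul_right] at h4
  have h5 : Nat.gcd p m = 1 := (Nat.Prime.coprime_iff_not_dvd hp.out).2 hm
  rw [h5, one_mul] at h4
  exact orderOf_dvd_iff_pow_eq_one.1 h4

/-- a subgroup of index prime to `p` contains conjugates of all `p`-elements -/
theorem exists_order {K : Type*} [Group K] [Finite K] {p : ℕ} [hp : Fact p.Prime] {L : Subgroup K} (h : ¬ p ∣ L.index)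
    {y : K} {k : ℕ} (hy : orderOf y = p ^ k) : ∃ x : ↥L, orderOf x = p ^ k := by
  have hP : IsPGroup p ↥(zpowers y) := IsPGroup.of_card (n := k) (by rw [Nat.card_zpowers, hy])
  have h1 : ¬ p ∣ Nat.card (K ⧸ L) := h
  obtain ⟨a, ha⟩ := hP.nonempty_fixed_point_of_prime_not_dvd_card (K ⧸ L) h1
  obtain ⟨g, rfl⟩ := QuotientGroup.mk_surjective a
  have h2 : (⟨y, mem_zpowers y⟩ : ↥(zpowers y)) • (QuotientGroup.mk g : K ⧸ L) = QuotientGroup.mk g :=
    ha ⟨y, mem_zpowers y⟩
  have h3 : g⁻¹ * y * g ∈ L := by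
    have h4 : (QuotientGroup.mk (y * g) : K ⧸ L) = QuotientGroup.mk g := h2
    have h5 := QuotientGroup.eq.1 h4.symm
    rwa [← mul_assoc] at h5
  refine ⟨⟨g⁻¹ * y * g, h3⟩, ?_⟩
  rw [← Subgroup.orderOf_coe, ← hy]
  have h6 := orderOf_injective (MulAut.conj g⁻¹).toMonoidHom (MulAut.conj g⁻¹).injective y
  rw [← h6]
  exact congrArg orderOf (by simp)

end Cfsg.Agent.H237.ExpP
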