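import Cfsg.Agent.H237.KillBG2

/-!
# The Baby Monster, `p = 5` (helper237)

The four candidates of helper828's `Main.Open`.
-/

set_option autoImplicit false

namespace Cfsg.Agent.H237.KillB

open Cfsg Cfsg.Agent.OrdDiv
open Cfsg.Agent.H238 (Emb)

universe u

theorem b {K : Type u} [Group K] [Finite K] (hK : Spor.IsoB K) {L : Subgroup K} {z : K} (h : Emb 5 L z) :
    ∀ g ∈ [Grp.psl 4 5, Grp.psl 3 25, Grp.psu 4 5, Grp.g2 5], Real g ↥L → False := by
  intro g hg hL
  simp only [List.mem_cons, List.not_mem_nil, or_false] at hg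
  rcases hg with rfl | rfl | rfl | rfl
  · exact KillBExp.psl hK h (d := 1) (by norm_num) (by norm_num) hL
  · exact KillBExp.psl hK h (d := 2) (by norm_num) (by norm_num) hL
  · exact KillBExp.psu hK h (d := 2) (by norm_num) (by norm_num) hL
  · exact KillBG2.g2 hK hL

end Cfsg.Agent.H237.KillB
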