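import Cfsg.Agent.H237.ThreeB
import Cfsg.Agent.H237.KillBExp
import Cfsg.Agent.H828.KillMThree
import Cfsg.Agent.H181.OctPerf
import Cfsg.Agent.H148.Oct.SepG2
import Cfsg.Agent.S0279
import Cfsg.Agent.S0280
import Cfsg.Agent.S0283

/-!
# The Baby Monster, `p = 5`: `G₂(5)` is excluded (helper237)

`SU₃(5) ≤ G₂(5)` (helper181), its centre has order 3, but the centralizer of an element of order 3 of `B` has no such
subgroup of order divisible by 125 (`ThreeB.no_hom`).
-/

set_option autoImplicit false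

namespace Cfsg.Agent.H237.KillBG2

open Cfsg Cfsg.Agent.H181.OctHerm QuadraticAlgebra

/-- `SU₃(q)` in `G₂(q)`, `q ≡ 2 mod 3` -/
theorem exists_hom {F : Type} [Field F] [Finite F] (h3 : (3 : F) ≠ 0) (hq : Nat.card F % 3 = 2) :
    ∃ (E : Type) (_ : Field E) (_ : Fintype E) (ψ : Cfsg.SU 3 E (Nat.card F) →* ↥(Lie.chevG2.group F)),
      Fintype.card E = Nat.card F ^ 2 ∧ Function.Injective ψ := by
  have : Fintype F := Fintype.ofFinite F
  have hcard : Nat.card Fˣ = Nat.card F - 1 := Nat.card_units F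
  have hc1 : 1 < Nat.card F := Finite.one_lt_card
  have hfact : Fact (∀ r : F, r ^ 2 ≠ -1 + -1 * r) := by
    refine ⟨fun r hr => ?_⟩
    have h4 : r ^ 3 = 1 := by linear_combination (r - 1) * hr
    have h5 : r ≠ 1 := by
      rintro rfl
      apply h3
      linear_combination hr
    have h6 : r ≠ 0 := by
      rintro rfl
      simp at h4
    have h7 : orderOf (Units.mk0 r h6) = 3 := by
      apply orderOf_eq_prime
      · ext; simpa using h4
      · intro h; exact h5 (congrArg Units.val h)
    have h8 := orderOf_dvd_natCard (Units.mk0 r h6)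
    rw [h7, hcard] at h8
    omega
  have hfinL : Finite (LL F) := finite_LL
  have : Fintype (LL F) := Fintype.ofFinite _
  have hcL : Fintype.card (LL F) = Nat.card F ^ 2 := by
    rw [← Nat.card_eq_fintype_card, Nat.card_congr (QuadraticAlgebra.equivProd (-1 : F) (-1)), Nat.card_prod, pow_two]
  have hstar : ∀ x : LL F, x ^ Nat.card F = star x := by
    intro x
    have h4 : FiniteField.frobeniusAlgHom F (LL F) x = x ^ Nat.card F := by
      rw [Nat.card_eq_fintype_card]; rfl
    rw [← h4]
    have h5 : x = algebraMap F (LL F) x.re + algebraMap F (LL F) x.im * om := by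
      ext <;> simp [om]
    have h6 : FiniteField.frobeniusAlgHom F (LL F) om = -1 - om := by
      change (om : LL F) ^ Fintype.card F = _
      rw [← Nat.card_eq_fintype_card]
      obtain ⟨k, hk⟩ : ∃ k, Nat.card F = 3 * k + 2 := ⟨Nat.card F / 3, by omega⟩
      have h7 : (om : LL F) ^ 3 = 1 := by rw [pow_succ, pow_two, om_cube]
      rw [hk, pow_add, pow_mul, h7, one_pow, one_mul, pow_two, om_sq]
    rw [h5, map_add, map_mul, AlgHom.commutes, AlgHom.commutes, h6]
    ext <;> simp [om] <;> ring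
  have hmem : ∀ A : Cfsg.SU 3 (LL F) (Nat.card F),
      (((A : Matrix.SpecialLinearGroup (Fin 3) (LL F)) : Matrix (Fin 3) (Fin 3) (LL F))) ∈ Matrix.unitaryGroup (Fin 3) (LL F) := by
    intro A
    rw [Matrix.mem_unitaryGroup_iff']
    ext1 i j
    have h4 := (LieClassical.SUBasic.mem_SU_iff _).1 A.2 (Pi.single j 1) (Pi.single i 1)
    rw [LieClassical.SUBasic.hermForm_apply, LieClassical.SUBasic.hermForm_apply, Matrix.mulVec_single_one,
      Matrix.mulVec_single_one] at h4
    rw [Matrix.mul_apply]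
    simp only [hstar, Matrix.col_apply] at h4
    simp only [Matrix.star_apply]
    rw [show (∑ k, star ((((A : Matrix.SpecialLinearGroup (Fin 3) (LL F)) : Matrix (Fin 3) (Fin 3) (LL F))) k i) *
      (((A : Matrix.SpecialLinearGroup (Fin 3) (LL F)) : Matrix (Fin 3) (Fin 3) (LL F))) k j) = _ from
      (Finset.sum_congr rfl fun k _ => mul_comm _ _).trans h4]
    fin_cases i <;> fin_cases j <;> simp [Fin.sum_univ_three]
  let f : Cfsg.SU 3 (LL F) (Nat.card F) →* Cfsg.Agent.H181.OctHerm.SU F :=
    { toFun := fun A => ⟨⟨_, hmem A⟩, A.1.2⟩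
      map_one' := rfl
      map_mul' := fun A B => rfl }
  have hf : Function.Injective f := by
    intro A B hAB
    have h1 : (f A : U3 F) = (f B : U3 F) := congrArg Subtype.val hAB
    have h2 : ((f A : U3 F) : Matrix (Fin 3) (Fin 3) (LL F)) = ((f B : U3 F) : Matrix (Fin 3) (Fin 3) (LL F)) :=
      congrArg Subtype.val h1
    exact Subtype.ext (Subtype.ext h2)
  obtain ⟨κ, hκ⟩ := exists_kappa h3
  obtain ⟨e⟩ := H148.Oct.nonempty_equiv F
  refine ⟨LL F, inferInstance, inferInstance, (e.toMonoidHom.comp (equivAutO h3 κ hκ).toMonoidHom).comp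
    ((rho κ).comp f), hcL, ?_⟩
  exact (e.injective.comp (equivAutO h3 κ hκ).injective).comp ((rho_injective κ).comp hf)

universe u

variable {K : Type u} [Group K] {L : Subgroup K}

/-- `G₂(5)` -/
theorem g2 (hK : Spor.IsoB K) (hL : OrdDiv.Real (.g2 5) ↥L) : False := by
  obtain ⟨F, i1, i2, hF, ⟨e⟩⟩ := hL
  have : Fact (Nat.Prime 5) := ⟨Nat.prime_five⟩
  have : Fact (Nat.Prime 3) := ⟨Nat.prime_three⟩
  have hF' : Nat.card F = 5 := by rw [Nat.card_eq_fintype_card, hF]
  have hch : CharP F 5 := H382.FieldAction.charP_of_card F (d := 1) (by rw [hF', pow_one])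
  have h3 : (3 : F) ≠ 0 := by
    intro h
    have h1 := (CharP.cast_eq_zero_iff F 5 3).1 (by exact_mod_cast h)
    revert h1
    norm_num
  obtain ⟨E, j1, j2, ψ, hE, hψ⟩ := exists_hom (F := F) h3 (by rw [hF'])
  rw [hF'] at hE
  have hq5 : Nat.card F = 5 := hF'
  let W := ↥(Cfsg.SU 3 E (Nat.card F))
  have hE' : Fintype.card E = Nat.card F ^ 2 := by rw [hE, hF']
  let j : W →* K := (L.subtype.comp e.symm.toMonoidHom).comp ψ
  have hj : Function.Injective j := (L.subtype_injective.comp e.symm.injective).comp hψ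
  have hz : Nat.card ↥(Subgroup.center W) = 3 := by
    rw [Cfsg.Agent.S0279.result hE' 3 le_rfl, hF']
    decide
  have hP : Nat.card (Cfsg.PSU 3 E (Nat.card F)) = 126000 := by
    have h := Cfsg.Agent.S0280.result hE' 3 (by norm_num)
    rw [hF'] at h ⊢
    simp only [Finset.prod_range_succ, Finset.prod_range_zero] at h
    norm_num [Nat.even_iff] at h
    omega
  have hs : IsSimpleGroup (W ⧸ Subgroup.center W) := Cfsg.Agent.S0283.result hE' 3 le_rfl (by rw [hF']; norm_num)
  have hW : Nat.card W = 378000 := by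
    rw [Subgroup.card_eq_card_quotient_mul_card_subgroup (Subgroup.center W), hz]
    change Nat.card (Cfsg.PSU 3 E (Nat.card F)) * 3 = _
    rw [hP]
  have hfW : Finite W := Nat.finite_of_card_ne_zero (by rw [hW]; norm_num)
  obtain ⟨w, hw⟩ := exists_prime_orderOf_dvd_card' (G := ↥(Subgroup.center W)) 3 (by rw [hz])
  refine ThreeB.no_hom hK j hj (x := j (w : W)) ?_ ?_ ?_ ?_
  · rw [orderOf_injective j hj, Subgroup.orderOf_coe, hw]
  · intro v
    rw [← map_mul, ← map_mul, Subgroup.mem_center_iff.1 w.2 v]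
  · rw [hW]; norm_num
  · intro N hN ho
    have h1 := H828.KillM3.le_center hs (by
      change Even (Nat.card (Cfsg.PSU 3 E (Nat.card F)))
      rw [hP]; decide) hN ho
    have h2 := Subgroup.card_dvd_of_le h1
    rw [hz] at h2
    exact Nat.Coprime.of_dvd_right h2 (by norm_num)

end Cfsg.Agent.H237.KillBG2
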