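import Cfsg.Agent.H979.OddB
import Cfsg.Agent.H828.MThree

/-!
# Subgroups of the centralizers of elements of order 3 of the Baby Monster (helper237)

`no_sub` : a subgroup `A` of `C(y) ∩ C(t)`, `y` of order 3 and `t` in the class 2A of the Monster, whose order is divisible
by 125, has a normal subgroup of odd order divisible by 5.  The proof follows helper979 (`BAdj.three`) and helper828
(`MThree.bd_zero`).
-/

set_option autoImplicit false
set_option maxRecDepth 100000

namespace Cfsg.Agent.H237.ThreeB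

open Cfsg Cfsg.Agent.MonsterU Cfsg.Agent.LThree Cfsg.Agent.LThreeMB
open Cfsg.Agent.MonsterU.Ch
open Cfsg.Agent.MonsterU.Lam2 (L2)
open Cfsg.Spor (Co1)
open Subgroup (centralizer zpowers mem_centralizer_singleton_iff)
open Cfsg.Agent.H828.MThree (card_ker_dvd)

universe u

/-- the condition -/
def NoSub {G : Type u} [Group G] (n : ℕ) (D : Subgroup G) : Prop :=
  ∀ A : Subgroup G, A ≤ D → n ∣ Nat.card ↥A →
    (∀ N : Subgroup G, N ≤ A → (∀ a ∈ A, ∀ x ∈ N, a * x * a⁻¹ ∈ N) → Odd (Nat.card ↥N) → n.Coprime (Nat.card ↥N)) → False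

section

variable {G : Type u} [Group G] {n : ℕ}

theorem NoSub.mono {D E : Subgroup G} (h : NoSub n D) (hE : E ≤ D) : NoSub n E := fun A hA h1 h2 =>
  h A (hA.trans hE) h1 h2

theorem NoSub.of_card [Finite G] {D : Subgroup G} (h : ¬ n ∣ Nat.card ↥D) : NoSub n D := fun _ hA h1 _ =>
  h (h1.trans (Subgroup.card_dvd_of_le hA))

theorem NoSub.map (e : G ≃* G) {D : Subgroup G} (h : NoSub n D) : NoSub n (D.map e.toMonoidHom) := by
  intro A hA h1 h2
  refine h (A.comap e.toMonoidHom) ?_ ?_ ?_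
  · intro x hx
    obtain ⟨y, hy, hyx⟩ := hA hx
    rwa [← e.injective hyx]
  · rwa [Nat.card_congr ((A.comap e.toMonoidHom).equivMapOfInjective e.toMonoidHom e.injective).toEquiv,
      Subgroup.map_comap_eq_self_of_surjective (f := e.toMonoidHom) e.surjective]
  · intro N hN hn ho
    have hc : Nat.card ↥(N.map e.toMonoidHom) = Nat.card ↥N :=
      (Nat.card_congr (N.equivMapOfInjective e.toMonoidHom e.injective).toEquiv).symm
    rw [← hc]
    refine h2 _ ?_ ?_ (hc ▸ ho)
    · rintro _ ⟨x, hx, rfl⟩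
      exact hN hx
    · rintro a ha _ ⟨x, hx, rfl⟩
      obtain ⟨b, rfl⟩ := e.surjective a
      exact ⟨b * x * b⁻¹, hn b ha x hx, by simp⟩

end

section

variable {G : Type u} [Group G] {Q : Subgroup G} {z : G} {eta : G → L2}
  {pi : Subgroup.centralizer ({z} : Set G) →* Co1}

/-- **Fixed rank 0.** -/
theorem dvd_zero [Finite G] (h : Chart Q z eta pi) {x : Subgroup.centralizer ({z} : Set G)} (hx : orderOf x = 3)
    (hiso : ∀ d : G, d * (x : G) = x * d → (d * z * d⁻¹) * z = z * (d * z * d⁻¹) → d * z * d⁻¹ = z)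
    (hQ : Nat.card ↥Q = 2 ^ 25) (hS : Nat.card (XX (pi x)) = 448345497600) {n : ℕ}
    (A : Subgroup ↥(centralizer ({(x : G)} : Set G))) (hA : n ∣ Nat.card ↥A)
    (hN : ∀ N : Subgroup ↥(centralizer ({(x : G)} : Set G)), N.Normal → Odd (Nat.card ↥N) →
      Nat.Coprime n (Nat.card ↥(N ⊓ A : Subgroup _))) : n ∣ 3 * 2 ^ 25 * 448345497600 := by
  have hx3 : x ^ 3 = 1 := by rw [← hx, pow_orderOf_eq_one]
  have hzo : orderOf (zD x) = 2 := by
    rw [← Subgroup.orderOf_coe]
    exact LargeExtra.Base.orderOf_z h.large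
  obtain ⟨N, hNn, hNo, hsup⟩ := ZStar.exists_core hzo (fun d hd =>
    Subtype.ext (hiso d (mem_centralizer_singleton_iff.1 d.2) (congrArg Subtype.val hd)))
  have h1 : N.index ∣ Nat.card ↥(centralizer ({zD x} : Set ↥(centralizer ({(x : G)} : Set G)))) := by
    have h2 : N.relIndex (centralizer ({zD x} : Set ↥(centralizer ({(x : G)} : Set G)))) = N.index := by
      rw [← Subgroup.relIndex_sup_right, sup_comm, hsup, Subgroup.relIndex_top_right]
    rw [← h2]
    exact Subgroup.relIndex_dvd_card _ _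
  have h3 : Nat.card ↥(centralizer ({zD x} : Set ↥(centralizer ({(x : G)} : Set G)))) ∣ 3 * 2 ^ 25 * 448345497600 := by
    rw [(toXX pi x).ker.card_eq_card_quotient_mul_card_subgroup,
      Nat.card_congr (QuotientGroup.quotientKerEquivOfSurjective _ (toXX_surj h hx3)).toEquiv, hS, mul_comm]
    exact Nat.mul_dvd_mul_right (hQ ▸ card_ker_dvd h hx) _
  have h4 : n ∣ N.relIndex A := by
    have h5 : Nat.card ↥(N ⊓ A : Subgroup _) * N.relIndex A = Nat.card ↥A := by
      rw [← Subgroup.inf_relIndex_right, ← Nat.card_congr (Subgroup.subgroupOfEquivOfLe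
        (inf_le_right : N ⊓ A ≤ A)).toEquiv]
      exact Subgroup.card_mul_index _
    rw [← h5] at hA
    exact (hN N hNn hNo).dvd_of_dvd_mul_left hA
  exact ((h4.trans (Subgroup.relIndex_dvd_index_of_normal N A)).trans h1).trans h3

/-- **Fixed rank 0**, subgroups of `G` -/
theorem noSub_zero [Finite G] (h : Chart Q z eta pi) {x : Subgroup.centralizer ({z} : Set G)} (hx : orderOf x = 3)
    (hiso : ∀ d : G, d * (x : G) = x * d → (d * z * d⁻¹) * z = z * (d * z * d⁻¹) → d * z * d⁻¹ = z)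
    (hQ : Nat.card ↥Q = 2 ^ 25) (hS : Nat.card (XX (pi x)) = 448345497600) {n : ℕ}
    (hn : ¬ n ∣ 3 * 2 ^ 25 * 448345497600) : NoSub n (centralizer ({(x : G)} : Set G)) := by
  intro A hA h1 h2
  refine hn (dvd_zero h hx hiso hQ hS (A.subgroupOf (centralizer ({(x : G)} : Set G))) ?_ ?_)
  · rwa [Nat.card_congr (Subgroup.subgroupOfEquivOfLe hA).toEquiv]
  · intro N hN hNo
    have hc : Nat.card ↥((N ⊓ A.subgroupOf (centralizer ({(x : G)} : Set G))).map
        (centralizer ({(x : G)} : Set G)).subtype) =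
        Nat.card ↥(N ⊓ A.subgroupOf (centralizer ({(x : G)} : Set G))) :=
      (Nat.card_congr (Subgroup.equivMapOfInjective _ _ (Subgroup.subtype_injective _)).toEquiv).symm
    rw [← hc]
    refine h2 _ ?_ ?_ ?_
    · rintro _ ⟨y, hy, rfl⟩
      exact Subgroup.mem_subgroupOf.1 hy.2
    · rintro a ha _ ⟨y, hy, rfl⟩
      refine ⟨⟨a, hA ha⟩ * y * ⟨a, hA ha⟩⁻¹, ⟨hN.conj_mem y hy.1 _, ?_⟩, rfl⟩
      refine Subgroup.mem_subgroupOf.2 ?_
      exact A.mul_mem (A.mul_mem ha (Subgroup.mem_subgroupOf.1 hy.2)) (A.inv_mem ha)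
    · rw [hc]
      exact hNo.of_dvd_nat (Subgroup.card_dvd_of_le inf_le_left)

end

end Cfsg.Agent.H237.ThreeB

namespace Cfsg.Agent.H237.ThreeB

open Cfsg Cfsg.Agent.MonsterX Cfsg.Agent.MonsterX.InstData Cfsg.Agent.MonsterX.MainPack Cfsg.Agent.MonsterU
open Cfsg.Agent.MonsterP Cfsg.Agent.MonsterN Cfsg.Agent.LThree Cfsg.Agent.LThreeMB
open Cfsg.Agent.MonsterX.MainBasic Cfsg.Agent.MonsterX.MainSimple Cfsg.Agent.MonsterX.Model
open Cfsg.Agent.LThreeB (XT mem_XT centXT' conjXT)
open Subgroup (centralizer mem_centralizer_singleton_iff center card_dvd_of_le)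
open Cfsg.Spor (Co1)
open Cfsg.Agent.H979.BAdj (chart)

/-- **Fixed rank 0.** -/
theorem zero {y : centralizer ({KDone.K.z} : Set ↥InstData.M.G)} (hy : orderOf y = 3)
    (hfr : fr (KChart.pi LThreeB.Row.cent y) = 1) :
    NoSub 125 (centralizer ({(y : ↥InstData.M.G)} : Set ↥InstData.M.G)) := by
  have hfin : Finite ↥InstData.M.G := MThirteen.Row.finite
  have h := chart
  have hS : Spor.IsoSuz (XX (KChart.pi LThreeB.Row.cent y)) := CoOneFin.coOne.suz _ (orderOf_pi h hy) hfr
  have hcS : Nat.card (XX (KChart.pi LThreeB.Row.cent y)) = 448345497600 := by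
    obtain ⟨e⟩ := hS
    rw [Nat.card_congr e.toEquiv]
    exact SporadicRecognition.SuzOrder.card_Suz
  exact noSub_zero h hy (fun d hd hc => isolated h MThirteen.Row.trNe hy hfr d hd hc) h.card_Q hcS (by norm_num)

theorem conj_XT {G : Type*} [Group G] {n : ℕ} {g x t : G} (h : NoSub n (XT (g * x * g⁻¹) (g * t * g⁻¹))) :
    NoSub n (XT x t) := by
  have h1 := h.map (MulAut.conj g⁻¹)
  refine h1.mono ?_
  intro c hc
  obtain ⟨hc1, hc2⟩ := mem_XT.1 hc
  refine ⟨g * c * g⁻¹, mem_XT.2 ⟨LThreeB.conj_comm' hc1, LThreeB.conj_comm' hc2⟩, ?_⟩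
  show g⁻¹ * (g * c * g⁻¹) * g⁻¹⁻¹ = c
  group

/-- **`y` of order 3 in `C(z)`.** -/
theorem cent {y : centralizer ({KDone.K.z} : Set ↥InstData.M.G)} (hy : orderOf y = 3)
    {t : ↥InstData.M.G} (ht : orderOf t = 2) (hyt : (y : ↥InstData.M.G) * t = t * y) :
    NoSub 125 (XT (y : ↥InstData.M.G) t) := by
  have hfin : Finite ↥InstData.M.G := MThirteen.Row.finite
  have hsim : IsSimpleGroup ↥InstData.M.G := MThirteen.Row.simple
  have h := chart
  have I := CoOneFin.coOne
  have hy' : orderOf (y : ↥InstData.M.G) = 3 := by rw [Subgroup.orderOf_coe, hy]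
  rcases I.ranks (KChart.pi LThreeB.Row.cent y) (orderOf_pi h hy) with h1 | h1 | h1 | h1
  · exact (zero hy h1).mono inf_le_left
  · obtain ⟨x₀, u, g, hx₀, hfr₀, huz, hux, hne, hg⟩ := MThirteen.Row.hasPair
    obtain ⟨k, hk⟩ := conj_six h MThirteen.Row.trNe I.ranks I.six
      (fun x hx h2 => ⟨(good_of_inputs h I hx h2 : Good.{0} _).simple, (good_of_inputs h I hx h2 : Good.{0} _).nc⟩)
      hx₀ hfr₀ huz hux hne hg hy h1
    refine conj_XT (g := k) ?_
    rw [hk]
    exact (zero hx₀ hfr₀).mono inf_le_left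
  · obtain ⟨e⟩ := LThreeB.isoTh_of_inputs h I hy h1
    obtain ⟨τ, hτ, hd⟩ := H979.BAdj.card_XT_dvd Nat.prime_three (by norm_num) hy' ht hyt
    rw [LThreeB.card_centralizer_congr e, H979.BAdj.card_inv_th (by rw [MulEquiv.orderOf_eq, hτ])] at hd
    exact NoSub.of_card fun h3 => absurd (h3.trans hd) (by norm_num)
  · obtain ⟨e⟩ := LThreeB.isoFi_of_inputs h I hy h1
    refine NoSub.mono (NoSub.of_card (D := centralizer ({(y : ↥InstData.M.G)} : Set ↥InstData.M.G)) fun h3 => ?_)
      inf_le_left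
    rw [H828.MThree.card_centralizer hy', Nat.card_congr e.toEquiv, Cfsg.Agent.S1698.result.2] at h3
    revert h3
    norm_num

/-- **`y` of order 3 commuting with `t` in the class 2A.** -/
theorem no_sub {y t : ↥InstData.M.G} (hy : orderOf y = 3) (ht : LThreeB.Row.TA t)
    (hyt : y * t = t * y) : NoSub 125 (XT y t) := by
  obtain ⟨g, hg, -⟩ := LThreeM.FiRow.exists_z_in (x := y) (v := t) (by rw [← hy, pow_orderOf_eq_one]) ht hyt
  have h1 : (g⁻¹ * y * g⁻¹⁻¹) * KDone.K.z = KDone.K.z * (g⁻¹ * y * g⁻¹⁻¹) := by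
    calc (g⁻¹ * y * g⁻¹⁻¹) * KDone.K.z = g⁻¹ * (y * (g * KDone.K.z * g⁻¹)) * g := by group
      _ = g⁻¹ * ((g * KDone.K.z * g⁻¹) * y) * g := by rw [hg]
      _ = KDone.K.z * (g⁻¹ * y * g⁻¹⁻¹) := by group
  refine conj_XT (g := g⁻¹) (cent (y := ⟨g⁻¹ * y * g⁻¹⁻¹, mem_centralizer_singleton_iff.2 h1⟩) ?_ ?_ ?_)
  · rw [← Subgroup.orderOf_coe, ← hy]
    exact MulEquiv.orderOf_eq (MulAut.conj g⁻¹) y
  · rw [← MThirteen.Row.ta_order ht]
    exact MulEquiv.orderOf_eq (MulAut.conj g⁻¹) t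
  · exact LThreeB.conj_comm' hyt

/-- **`B` contains no group `A` commuting with an element of order 3**, `125 ∣ |A|`, without normal subgroup of odd order
divisible by 5 -/
theorem no_hom {K : Type*} [Group K] (hK : Spor.IsoB K) {W : Type*} [Group W] [Finite W] (j : W →* K)
    (hj : Function.Injective j) {x : K} (hx : orderOf x = 3) (hc : ∀ w, j w * x = x * j w) (h125 : 125 ∣ Nat.card W)
    (hW : ∀ N : Subgroup W, N.Normal → Odd (Nat.card ↥N) → Nat.Coprime 125 (Nat.card ↥N)) : False := by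
  have hfin : Finite ↥InstData.M.G := MThirteen.Row.finite
  obtain ⟨t, ht, h2, ⟨e⟩⟩ := H979.OddB.exists_cover hK
  set C := centralizer ({t} : Set ↥InstData.M.G) with hC
  obtain ⟨a, ha, ha'⟩ := H979.CovLift.exists_lift h2 Nat.prime_three (by norm_num) (x := e.symm x)
    (by rw [MulEquiv.orderOf_eq, hx])
  let q : ↥C →* K := e.toMonoidHom.comp (QuotientGroup.mk' _)
  have hq : Function.Surjective q := e.surjective.comp (QuotientGroup.mk'_surjective _)
  have hqk : q.ker = center ↥C := by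
    ext c
    rw [MonoidHom.mem_ker]
    show e (QuotientGroup.mk c) = 1 ↔ _
    rw [map_eq_one_iff e e.injective, QuotientGroup.eq_one_iff]
  let B : Subgroup ↥C := j.range.comap q
  have hBcomm : ∀ b ∈ B, a * b = b * a := by
    intro b hb
    obtain ⟨w, hw⟩ := hb
    refine H979.CovLift.lift_comm le_rfl h2 (n := 3) (by decide) (by rw [← ha, pow_orderOf_eq_one]) ?_
    rw [ha']
    apply e.injective
    rw [map_mul, map_mul, e.apply_symm_apply]
    have h3 : e (QuotientGroup.mk b) = j w := hw.symm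
    rw [h3]
    exact (hc w).symm
  let A : Subgroup ↥InstData.M.G := B.map C.subtype
  have hcA : Nat.card ↥A = Nat.card ↥B :=
    (Nat.card_congr (B.equivMapOfInjective _ C.subtype_injective).toEquiv).symm
  -- the homomorphism `B → W`
  let f : ↥B →* W := (MonoidHom.ofInjective hj).symm.toMonoidHom.comp
    ((q.comp B.subtype).codRestrict j.range fun b => b.2)
  have hf : ∀ b : ↥B, j (f b) = q b := fun b =>
    congrArg Subtype.val ((MonoidHom.ofInjective hj).apply_symm_apply _)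
  have hfs : Function.Surjective f := by
    intro w
    obtain ⟨c, hc'⟩ := hq (j w)
    refine ⟨⟨c, w, hc'.symm⟩, hj ?_⟩
    rw [hf]
    exact hc'
  have hfk : ∀ b : ↥B, f b = 1 → (b : ↥C) * b = 1 := by
    intro b hb
    have h3 : q b = 1 := by rw [← hf, hb, map_one]
    have h4 : (b : ↥C) ∈ center ↥C := by rw [← hqk]; exact h3
    have h5 : (⟨b, h4⟩ : ↥(center ↥C)) ^ Nat.card ↥(center ↥C) = 1 := pow_card_eq_one'
    rw [h2, pow_two] at h5
    exact congrArg Subtype.val h5
  refine no_sub (y := a) (t := t) (by rw [Subgroup.orderOf_coe, ha]) ht (mem_centralizer_singleton_iff.1 a.2) A ?_ ?_ ?_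
  · rintro _ ⟨b, hb, rfl⟩
    exact mem_XT.2 ⟨(congrArg Subtype.val (hBcomm b hb)).symm, mem_centralizer_singleton_iff.1 b.2⟩
  · rw [hcA]
    exact h125.trans (Subgroup.card_dvd_of_surjective f hfs)
  · intro N hN hn ho
    -- the image in `W`
    let N' : Subgroup ↥B := (N.comap C.subtype).comap B.subtype
    have hN'c : Nat.card ↥N' = Nat.card ↥N := by
      have h3 : (N'.map B.subtype).map C.subtype = N := by
        ext g
        constructor
        · rintro ⟨_, ⟨b, hb, rfl⟩, rfl⟩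
          exact hb
        · intro hg
          obtain ⟨b, hb, rfl⟩ := hN hg
          exact ⟨b, ⟨⟨b, hb⟩, hg, rfl⟩, rfl⟩
      rw [← h3]
      rw [← Nat.card_congr ((N'.map B.subtype).equivMapOfInjective _ C.subtype_injective).toEquiv,
        ← Nat.card_congr (N'.equivMapOfInjective _ B.subtype_injective).toEquiv]
    have hN'o : Odd (Nat.card ↥N') := hN'c ▸ ho
    have hN'n : N'.Normal := ⟨fun x hx b => hn _ ⟨b, b.2, rfl⟩ _ hx⟩
    have hinj : Set.InjOn f N' := by
      intro u hu v hv huv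
      have h3 : f (u * v⁻¹) = 1 := by rw [map_mul, map_inv, huv, mul_inv_cancel]
      have h4 : u * v⁻¹ ∈ N' := N'.mul_mem hu (N'.inv_mem hv)
      have h5 : (u * v⁻¹) * (u * v⁻¹) = 1 := Subtype.ext (hfk _ h3)
      have h6 : orderOf (u * v⁻¹) ∣ Nat.card ↥N' := by
        rw [← Subgroup.orderOf_mk (u * v⁻¹) h4]
        exact orderOf_dvd_natCard _
      have h7 : orderOf (u * v⁻¹) ∣ 2 := orderOf_dvd_of_pow_eq_one (by rw [pow_two, h5])
      rcases (Nat.dvd_prime Nat.prime_two).1 h7 with h8 | h8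
      · exact mul_inv_eq_one.1 (orderOf_eq_one_iff.1 h8)
      · rw [h8] at h6
        exact absurd (even_iff_two_dvd.2 h6) (Nat.not_even_iff_odd.2 hN'o)
    have hcard : Nat.card ↥(N'.map f) = Nat.card ↥N' := by
      have h3 : Nat.card ↥(N'.map f) = Nat.card (f '' (N' : Set ↥B)) := rfl
      rw [h3, Nat.card_image_of_injOn hinj]
      rfl
    rw [← hN'c, ← hcard]
    exact hW _ (hN'n.map f hfs) (hcard ▸ hN'o)

end Cfsg.Agent.H237.ThreeB
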